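import Cfsg.Agent.Lib.E6Cubic.Stage
import Cfsg.Agent.Lib.Chevalley.Tbl.E6Sys

/-!
# Kernel checks relating the root matrices and the Chevalley basis of type `E₆`
-/

set_option autoImplicit false
set_option linter.unusedSectionVars false
set_option linter.unusedVariables false
set_option maxRecDepth 100000

namespace Cfsg.Agent.Lib.E6Cubic.Chk

open Cfsg.Lie Matrix Cfsg.Agent.Lib.Chevalley.Reflect Cfsg.Agent.Lib.ChevIso.Act Cfsg.Agent.Lib.E6Cubic.Tbl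
open Cfsg.Agent.Lib.E6Cubic.Fast

noncomputable section

theorem chk_all : (List.range 72).all (fun r => (List.range 78).all fun k => fchk r k) = true := by
  decide +kernel

/-- The coordinate functionals. -/
def dualT : Tr SpM :=
  (Tr.node 39 [(11, 9, 1)] (Tr.node 19 [(26, 0, 1)] (Tr.node 9 [(13, 0, 1)] (Tr.node 4 [(0, 0, 2), (9, 9, 1), (10, 10, 1)] (Tr.node 2 [(0, 0, 1), (1, 1, 1)] (Tr.node 1 [(1, 1, 1), (2, 2, 1), (3, 3, 1)] (Tr.node 0 [(0, 0, 1)] Tr.nil Tr.nil) Tr.nil) (Tr.node 3 [(0, 0, 1), (1, 1, 1), (2, 2, 1)] Tr.nil Tr.nil)) (Tr.node 7 [(3, 0, 1)] (Tr.node 6 [(6, 0, -1)] (Tr.node 5 [(0, 0, 1), (9, 9, 1)] Tr.nil Tr.nil) Tr.nil) (Tr.node 8 [(14, 0, -1)] Tr.nil Tr.nil))) (Tr.node 14 [(19, 0, 1)] (Tr.node 12 [(16, 0, 1)] (Tr.node 11 [(17, 0, -1)] (Tr.node 10 [(12, 0, -1)] Tr.nil Tr.nil) Tr.nil) (Tr.node 13 [(15, 0, -1)]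 Tr.nil Tr.nil)) (Tr.node 17 [(20, 0, 1)] (Tr.node 16 [(25, 0, 1)] (Tr.node 15 [(22, 0, 1)] Tr.nil Tr.nil) Tr.nil) (Tr.node 18 [(23, 0, 1)] Tr.nil Tr.nil)))) (Tr.node 29 [(22, 2, -1)] (Tr.node 24 [(15, 1, 1)] (Tr.node 22 [(17, 1, 1)] (Tr.node 21 [(1, 0, 1)] (Tr.node 20 [(2, 0, -1)] Tr.nil Tr.nil) Tr.nil) (Tr.node 23 [(16, 1, -1)] Tr.nil Tr.nil)) (Tr.node 27 [(25, 1, -1)] (Tr.node 26 [(22, 1, -1)] (Tr.node 25 [(19, 1, -1)] Tr.nil Tr.nil) Tr.nil) (Tr.node 28 [(19, 2, -1)] Tr.nil Tr.nil))) (Tr.node 34 [(26, 1, -1)] (Tr.node 32 [(20, 1, -1)] (Tr.node 31 [(6, 3, 1)] (Tr.node 30 [(25, 2, -1)] Tr.nil Tr.nil) Tr.nil) (Tr.node 33 [(23, 1, -1)] Tr.nil Tr.nil)) (Tr.node 37 [(23, 2, 1)] (Tr.node 36 [(20, 2, 1)] (Tr.node 35 [(2, 1, 1)] Tr.nil Tr.nil) Tr.nil) (Tr.node 38 [(26, 2, 1)] Tr.nil Tr.nil))))) (Tr.node 59 [(20, 3, -1)] (Tr.node 49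 [(17, 3, 1)] (Tr.node 44 [(9, 11, 1)] (Tr.node 42 [(9, 10, 1)] (Tr.node 41 [(10, 9, 1)] (Tr.node 40 [(11, 10, 1)] Tr.nil Tr.nil) Tr.nil) (Tr.node 43 [(10, 11, 1)] Tr.nil Tr.nil)) (Tr.node 47 [(12, 3, 1)] (Tr.node 46 [(13, 3, 1)] (Tr.node 45 [(14, 3, 1)] Tr.nil Tr.nil) Tr.nil) (Tr.node 48 [(1, 2, 1)] Tr.nil Tr.nil))) (Tr.node 54 [(13, 6, 1)] (Tr.node 52 [(3, 6, 1)] (Tr.node 51 [(15, 3, 1)] (Tr.node 50 [(16, 3, 1)] Tr.nil Tr.nil) Tr.nil) (Tr.node 53 [(14, 6, 1)] Tr.nil Tr.nil)) (Tr.node 57 [(16, 6, -1)] (Tr.node 56 [(17, 6, -1)] (Tr.node 55 [(12, 6, 1)] Tr.nil Tr.nil) Tr.nil) (Tr.node 58 [(15, 6, -1)] Tr.nil Tr.nil)))) (Tr.node 69 [(15, 7, -1)] (Tr.node 64 [(17, 4, 1)] (Tr.node 62 [(0, 1, 1)] (Tr.node 61 [(26, 3, -1)] (Tr.node 60 [(23, 3, 1)] Tr.nil Tr.nil) Tr.nil) (Tr.node 63 [(0, 2, -1)] Tr.nil Tr.nil)) (Tr.node 67 [(17, 7, -1)]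 (Tr.node 66 [(15, 4, 1)] (Tr.node 65 [(16, 4, 1)] Tr.nil Tr.nil) Tr.nil) (Tr.node 68 [(16, 7, -1)] Tr.nil Tr.nil))) (Tr.node 74 [(23, 5, -1)] (Tr.node 72 [(26, 4, -1)] (Tr.node 71 [(23, 4, 1)] (Tr.node 70 [(20, 4, -1)] Tr.nil Tr.nil) Tr.nil) (Tr.node 73 [(20, 5, 1)] Tr.nil Tr.nil)) (Tr.node 76 [(0, 3, 1)] (Tr.node 75 [(26, 5, 1)] Tr.nil Tr.nil) (Tr.node 77 [(0, 6, -1)] Tr.nil Tr.nil))))))

/-- The coordinate functional of a basis vector. -/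
def dualL (b : ℕ) : SpM := Tr.find [] dualT b

theorem dual_all : (List.range 78).all (fun b =>
    (dualL b).all (fun e => decide (e.1 < 27) && decide (e.2.1 < 27)) &&
    (List.range 78).all fun k =>
      decide (((dualL b).map fun e => e.2.2 * Pz k e.1 e.2.1).sum = if k = b then 1 else 0)) = true := by
  decide +kernel

/-- The pairs of opposite fundamental roots. -/
def simT : List (ℕ × ℕ) := [(56, 15), (46, 25), (42, 29), (39, 32), (37, 34), (36, 35)]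

theorem perf_all : (List.range 6).all (fun i =>
    decide ((simT.getD i (0, 0)).1 < 72) && decide ((simT.getD i (0, 0)).2 < 72) &&
    spEq (pl i) (lapp (spMul (bl (simT.getD i (0, 0)).1) (bl (simT.getD i (0, 0)).2))
      (spScale (-1) (spMul (bl (simT.getD i (0, 0)).2) (bl (simT.getD i (0, 0)).1))))) = true := by
  decide +kernel

end

end Cfsg.Agent.Lib.E6Cubic.Chk
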