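import Mathlib
import Cfsg.Agent.Lib.ChevIso.Act
import Cfsg.Agent.Lib.Chevalley.Tbl.E6Cols
import Cfsg.Prelude.Def_E6

/-!
# The data of the `27`-dimensional module of type `E₆`: the cubic form, the root matrices, the line incidence.
-/

set_option autoImplicit false
set_option linter.unusedSectionVars false
set_option linter.unusedVariables false

namespace Cfsg.Agent.Lib.E6Cubic.Tbl

noncomputable section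

open Cfsg.Lie Matrix Cfsg.Agent.Lib.Chevalley.Reflect Cfsg.Agent.Lib.ChevIso.Act

/-- Encoding of the coordinates. -/
def E27 : Enc I27 where
  cd a := 9 * a.1.val + 3 * a.2.1.val + a.2.2.val
  dc n := (⟨n / 9 % 3, Nat.mod_lt _ (by norm_num)⟩, ⟨n / 3 % 3, Nat.mod_lt _ (by norm_num)⟩, ⟨n % 3, Nat.mod_lt _ (by norm_num)⟩)
  dc_cd := by decide
  L := [0, 1, 2, 3, 4, 5, 6, 7, 8, 9, 10, 11, 12, 13, 14, 15, 16, 17, 18, 19, 20, 21, 22, 23, 24, 25, 26]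
  mem := by decide

/-- The monomials of the cubic form `(a, b, c, sign)`. -/
def triL : List (ℕ × ℕ × ℕ × ℤ) :=
  [(0, 4, 8, 1), (1, 5, 6, 1), (2, 3, 7, 1), (0, 5, 7, -1), (2, 4, 6, -1), (1, 3, 8, -1), (9, 13, 17, 1), (10, 14, 15, 1), (11, 12, 16, 1), (9, 14, 16, -1), (11, 13, 15, -1), (10, 12, 17, -1), (18, 22, 26, 1), (19, 23, 24, 1), (20, 21, 25, 1), (18, 23, 25, -1), (20, 22, 24, -1), (19, 21, 26, -1), (0, 9, 18, -1), (0, 10, 21, -1), (0, 11, 24, -1), (1, 12, 18, -1), (1, 13, 21, -1), (1, 14, 24, -1), (2, 15, 18, -1), (2, 16, 21, -1), (2, 17, 24, -1), (3, 9, 19, -1), (3, 10, 22, -1), (3, 11, 25, -1), (4, 12, 19, -1), (4, 13, 22, -1), (4, 14, 25, -1), (5, 15, 19, -1), (5, 16, 22, -1), (5, 17, 25, -1), (6, 9, 20, -1), (6, 10, 23, -1), (6, 11, 26, -1), (7, 12, 20, -1), (7,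 13, 23, -1), (7, 14, 26, -1), (8, 15, 20, -1), (8, 16, 23, -1), (8, 17, 26, -1)]

/-- The root matrices. -/
def blT : Tr SpM :=
  (Tr.node 36 [(9, 10, 1), (12, 13, 1), (15, 16, 1), (21, 18, -1), (22, 19, -1), (23, 20, -1)] (Tr.node 18 [(15, 1, 1), (12, 2, -1), (24, 10, 1), (21, 11, -1), (6, 19, 1), (3, 20, -1)] (Tr.node 9 [(22, 0, 1), (21, 3, -1), (8, 13, 1), (7, 16, -1), (11, 20, -1), (9, 26, 1)] (Tr.node 4 [(12, 0, -1), (9, 1, 1), (24, 16, -1), (21, 17, 1), (8, 19, -1), (5, 20, 1)] (Tr.node 2 [(14, 0, -1), (11, 1, 1), (21, 15, -1), (18, 16, 1), (8, 25, -1), (5, 26, 1)] (Tr.node 1 [(3, 0, 1), (4, 1, 1), (5, 2, 1), (18, 19, -1), (21, 22, -1), (24, 25, -1)] (Tr.node 0 [(6, 0, -1), (7, 1, -1), (8, 2, -1), (18, 20, 1), (21, 23, 1), (24, 26, 1)] Tr.nil Tr.nil) Tr.nil) (Tr.node 3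 [(13, 0, 1), (10, 1, -1), (24, 15, -1), (18, 17, 1), (8, 22, 1), (5, 23, -1)] Tr.nil Tr.nil)) (Tr.node 7 [(15, 0, -1), (9, 2, 1), (24, 13, 1), (21, 14, -1), (7, 19, 1), (4, 20, -1)] (Tr.node 6 [(16, 0, 1), (10, 2, -1), (24, 12, 1), (18, 14, -1), (7, 22, -1), (4, 23, 1)] (Tr.node 5 [(17, 0, -1), (11, 2, 1), (21, 12, 1), (18, 13, -1), (7, 25, 1), (4, 26, -1)] Tr.nil Tr.nil) Tr.nil) (Tr.node 8 [(19, 0, 1), (18, 3, -1), (8, 12, 1), (7, 15, -1), (11, 23, 1), (10, 26, -1)] Tr.nil Tr.nil))) (Tr.node 14 [(2, 0, -1), (5, 3, -1), (8, 6, -1), (9, 15, 1), (10, 16, 1), (11, 17, 1)] (Tr.node 12 [(23, 0, 1), (21, 6, -1), (5, 13, -1), (4, 16, 1), (11, 19, 1), (9, 25, -1)] (Tr.node 11 [(20, 0, 1), (18, 6, -1), (5, 12, -1), (4, 15, 1), (11, 22, -1), (10, 25, 1)] (Tr.node 10 [(25, 0, 1), (24, 3,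 -1), (8, 14, 1), (7, 17, -1), (10, 20, 1), (9, 23, -1)] Tr.nil Tr.nil) Tr.nil) (Tr.node 13 [(26, 0, 1), (24, 6, -1), (5, 14, -1), (4, 17, 1), (10, 19, -1), (9, 22, 1)] Tr.nil Tr.nil)) (Tr.node 16 [(17, 1, 1), (14, 2, -1), (21, 9, 1), (18, 10, -1), (6, 25, 1), (3, 26, -1)] (Tr.node 15 [(1, 0, 1), (4, 3, 1), (7, 6, 1), (9, 12, -1), (10, 13, -1), (11, 14, -1)] Tr.nil Tr.nil) (Tr.node 17 [(16, 1, -1), (13, 2, 1), (24, 9, 1), (18, 11, -1), (6, 22, -1), (3, 23, 1)] Tr.nil Tr.nil)))) (Tr.node 27 [(23, 1, -1), (21, 7, 1), (5, 10, -1), (3, 16, 1), (14, 19, -1), (12, 25, 1)] (Tr.node 23 [(22, 2, -1), (21, 5, 1), (7, 10, -1), (6, 13, 1), (17, 20, 1), (15, 26, -1)] (Tr.node 21 [(25, 1, -1), (24, 4, 1), (8, 11, 1), (6, 17, -1), (13, 20, -1), (12, 23, 1)] (Tr.node 20 [(22, 1, -1), (21, 4,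 1), (8, 10, 1), (6, 16, -1), (14, 20, 1), (12, 26, -1)] (Tr.node 19 [(19, 1, -1), (18, 4, 1), (8, 9, 1), (6, 15, -1), (14, 23, -1), (13, 26, 1)] Tr.nil Tr.nil) Tr.nil) (Tr.node 22 [(19, 2, -1), (18, 5, 1), (7, 9, -1), (6, 12, 1), (17, 23, -1), (16, 26, 1)] Tr.nil Tr.nil)) (Tr.node 25 [(6, 3, 1), (7, 4, 1), (8, 5, 1), (19, 20, -1), (22, 23, -1), (25, 26, -1)] (Tr.node 24 [(25, 2, -1), (24, 5, 1), (7, 11, -1), (6, 14, 1), (16, 20, -1), (15, 23, 1)] Tr.nil Tr.nil) (Tr.node 26 [(20, 1, -1), (18, 7, 1), (5, 9, -1), (3, 15, 1), (14, 22, 1), (13, 25, -1)] Tr.nil Tr.nil))) (Tr.node 32 [(26, 2, 1), (24, 8, -1), (4, 11, -1), (3, 14, 1), (16, 19, -1), (15, 22, 1)] (Tr.node 30 [(20, 2, 1), (18, 8, -1), (4, 9, -1), (3, 12, 1), (17, 22, -1), (16, 25, 1)] (Tr.node 29 [(2, 1, 1), (5, 4, 1),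 (8, 7, 1), (12, 15, -1), (13, 16, -1), (14, 17, -1)] (Tr.node 28 [(26, 1, -1), (24, 7, 1), (5, 11, -1), (3, 17, 1), (13, 19, 1), (12, 22, -1)] Tr.nil Tr.nil) Tr.nil) (Tr.node 31 [(23, 2, 1), (21, 8, -1), (4, 10, -1), (3, 13, 1), (17, 19, 1), (15, 25, -1)] Tr.nil Tr.nil)) (Tr.node 34 [(11, 10, 1), (14, 13, 1), (17, 16, 1), (21, 24, -1), (22, 25, -1), (23, 26, -1)] (Tr.node 33 [(11, 9, 1), (14, 12, 1), (17, 15, 1), (18, 24, -1), (19, 25, -1), (20, 26, -1)] Tr.nil Tr.nil) (Tr.node 35 [(10, 9, 1), (13, 12, 1), (16, 15, 1), (18, 21, -1), (19, 22, -1), (20, 23, -1)] Tr.nil Tr.nil))))) (Tr.node 54 [(23, 3, 1), (22, 6, -1), (2, 13, 1), (1, 16, -1), (11, 18, -1), (9, 24, 1)] (Tr.node 45 [(15, 3, 1), (9, 5, -1), (25, 13, -1), (22, 14, 1), (7, 18, 1), (1, 20, -1)] (Tr.node 41 [(12, 3, 1),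 (9, 4, -1), (25, 16, 1), (22, 17, -1), (8, 18, -1), (2, 20, 1)] (Tr.node 39 [(14, 3, 1), (11, 4, -1), (22, 15, 1), (19, 16, -1), (8, 24, -1), (2, 26, 1)] (Tr.node 38 [(9, 11, 1), (12, 14, 1), (15, 17, 1), (24, 18, -1), (25, 19, -1), (26, 20, -1)] (Tr.node 37 [(10, 11, 1), (13, 14, 1), (16, 17, 1), (24, 21, -1), (25, 22, -1), (26, 23, -1)] Tr.nil Tr.nil) Tr.nil) (Tr.node 40 [(13, 3, 1), (10, 4, -1), (25, 15, -1), (19, 17, 1), (8, 21, -1), (2, 23, 1)] Tr.nil Tr.nil)) (Tr.node 43 [(17, 3, 1), (11, 5, -1), (22, 12, -1), (19, 13, 1), (7, 24, 1), (1, 26, -1)] (Tr.node 42 [(1, 2, 1), (4, 5, 1), (7, 8, 1), (15, 12, -1), (16, 13, -1), (17, 14, -1)] Tr.nil Tr.nil) (Tr.node 44 [(16, 3, 1), (10, 5, -1), (25, 12, 1), (19, 14, -1), (7, 21, 1), (1, 23, -1)] Tr.nil Tr.nil))) (Tr.node 50 [(17,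 6, -1), (11, 8, 1), (23, 12, 1), (20, 13, -1), (4, 24, 1), (1, 25, -1)] (Tr.node 48 [(13, 6, 1), (10, 7, -1), (26, 15, -1), (20, 17, 1), (5, 21, 1), (2, 22, -1)] (Tr.node 47 [(14, 6, 1), (11, 7, -1), (23, 15, 1), (20, 16, -1), (5, 24, 1), (2, 25, -1)] (Tr.node 46 [(3, 6, 1), (4, 7, 1), (5, 8, 1), (20, 19, -1), (23, 22, -1), (26, 25, -1)] Tr.nil Tr.nil) Tr.nil) (Tr.node 49 [(12, 6, 1), (9, 7, -1), (26, 16, 1), (23, 17, -1), (5, 18, 1), (2, 19, -1)] Tr.nil Tr.nil)) (Tr.node 52 [(15, 6, -1), (9, 8, 1), (26, 13, 1), (23, 14, -1), (4, 18, 1), (1, 19, -1)] (Tr.node 51 [(16, 6, -1), (10, 8, 1), (26, 12, -1), (20, 14, 1), (4, 21, 1), (1, 22, -1)] Tr.nil Tr.nil) (Tr.node 53 [(20, 3, -1), (19, 6, 1), (2, 12, -1), (1, 15, 1), (11, 21, -1), (10, 24, 1)] Tr.nil Tr.nil)))) (Tr.node 63 [(15,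 7, -1), (12, 8, 1), (26, 10, -1), (23, 11, 1), (3, 18, -1), (0, 19, 1)] (Tr.node 59 [(16, 4, 1), (13, 5, -1), (25, 9, -1), (19, 11, 1), (6, 21, -1), (0, 23, 1)] (Tr.node 57 [(0, 2, -1), (3, 5, -1), (6, 8, -1), (15, 9, 1), (16, 10, 1), (17, 11, 1)] (Tr.node 56 [(0, 1, 1), (3, 4, 1), (6, 7, 1), (12, 9, -1), (13, 10, -1), (14, 11, -1)] (Tr.node 55 [(26, 3, -1), (25, 6, 1), (2, 14, -1), (1, 17, 1), (10, 18, -1), (9, 21, 1)] Tr.nil Tr.nil) Tr.nil) (Tr.node 58 [(17, 4, 1), (14, 5, -1), (22, 9, 1), (19, 10, -1), (6, 24, -1), (0, 26, 1)] Tr.nil Tr.nil)) (Tr.node 61 [(17, 7, -1), (14, 8, 1), (23, 9, -1), (20, 10, 1), (3, 24, -1), (0, 25, 1)] (Tr.node 60 [(15, 4, 1), (12, 5, -1), (25, 10, 1), (22, 11, -1), (6, 18, -1), (0, 20, 1)] Tr.nil Tr.nil) (Tr.node 62 [(16, 7, -1), (13, 8, 1), (26,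 9, 1), (20, 11, -1), (3, 21, -1), (0, 22, 1)] Tr.nil Tr.nil))) (Tr.node 68 [(23, 5, -1), (22, 8, 1), (1, 10, -1), (0, 13, 1), (17, 18, 1), (15, 24, -1)] (Tr.node 66 [(26, 4, -1), (25, 7, 1), (2, 11, 1), (0, 17, -1), (13, 18, -1), (12, 21, 1)] (Tr.node 65 [(23, 4, 1), (22, 7, -1), (2, 10, -1), (0, 16, 1), (14, 18, -1), (12, 24, 1)] (Tr.node 64 [(20, 4, -1), (19, 7, 1), (2, 9, 1), (0, 15, -1), (14, 21, -1), (13, 24, 1)] Tr.nil Tr.nil) Tr.nil) (Tr.node 67 [(20, 5, 1), (19, 8, -1), (1, 9, 1), (0, 12, -1), (17, 21, 1), (16, 24, -1)] Tr.nil Tr.nil)) (Tr.node 70 [(0, 3, 1), (1, 4, 1), (2, 5, 1), (19, 18, -1), (22, 21, -1), (25, 24, -1)] (Tr.node 69 [(26, 5, 1), (25, 8, -1), (1, 11, 1), (0, 14, -1), (16, 18, 1), (15, 21, -1)] Tr.nil Tr.nil) (Tr.node 71 [(0, 6, -1), (1, 7, -1), (2, 8,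 -1), (20, 18, 1), (23, 21, 1), (26, 24, 1)] Tr.nil Tr.nil))))))

/-- The root matrix of a root. -/
def bl (r : ℕ) : SpM := Tr.find [] blT r

/-- The matrices of the `h_{p_i}`. -/
def hlT : Tr SpM :=
  (Tr.node 3 [(2, 2, 1), (3, 3, -1), (4, 4, -1), (8, 8, 1), (11, 11, 1), (14, 14, 1), (15, 15, -1), (16, 16, -1), (19, 19, 1), (22, 22, 1), (24, 24, -1), (26, 26, -1)] (Tr.node 1 [(3, 3, 1), (4, 4, 1), (5, 5, 1), (6, 6, -1), (7, 7, -1), (8, 8, -1), (19, 19, -1), (20, 20, 1), (22, 22, -1), (23, 23, 1), (25, 25, -1), (26, 26, 1)] (Tr.node 0 [(0, 0, 1), (1, 1, -1), (3, 3, 1), (4, 4, -1), (6, 6, 1), (7, 7, -1), (9, 9, -1), (10, 10, -1), (11, 11, -1), (12, 12, 1), (13, 13, 1), (14, 14, 1)] Tr.nil Tr.nil) (Tr.node 2 [(1, 1, 1), (2, 2, -1), (4, 4, 1), (5, 5, -1), (7, 7, 1), (8, 8, -1), (12,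 12, -1), (13, 13, -1), (14, 14, -1), (15, 15, 1), (16, 16, 1), (17, 17, 1)] Tr.nil Tr.nil)) (Tr.node 5 [(9, 9, 1), (10, 10, -1), (12, 12, 1), (13, 13, -1), (15, 15, 1), (16, 16, -1), (18, 18, -1), (19, 19, -1), (20, 20, -1), (21, 21, 1), (22, 22, 1), (23, 23, 1)] (Tr.node 4 [(10, 10, 1), (11, 11, -1), (13, 13, 1), (14, 14, -1), (16, 16, 1), (17, 17, -1), (21, 21, -1), (22, 22, -1), (23, 23, -1), (24, 24, 1), (25, 25, 1), (26, 26, 1)] Tr.nil Tr.nil) Tr.nil))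

/-- The matrix of a basis vector. -/
def pl (k : ℕ) : SpM := if k < 6 then Tr.find [] hlT k else bl (k - 6)

/-- The entries. -/
def Pz (k i j : ℕ) : ℤ := evZ (pl k) i j

/-- The third line of a tritangent plane (`27` if none). -/
def thirdL : List (List ℕ) :=
  [[27, 27, 27, 27, 8, 7, 27, 5, 4, 18, 21, 24, 27, 27, 27, 27, 27, 27, 9, 27, 27, 10, 27, 27, 11, 27, 27],
  [27, 27, 27, 8, 27, 6, 5, 27, 3, 27, 27, 27, 18, 21, 24, 27, 27, 27, 12, 27, 27, 13, 27, 27, 14, 27, 27],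
  [27, 27, 27, 7, 6, 27, 4, 3, 27, 27, 27, 27, 27, 27, 27, 18, 21, 24, 15, 27, 27, 16, 27, 27, 17, 27, 27],
  [27, 8, 7, 27, 27, 27, 27, 2, 1, 19, 22, 25, 27, 27, 27, 27, 27, 27, 27, 9, 27, 27, 10, 27, 27, 11, 27],
  [8, 27, 6, 27, 27, 27, 2, 27, 0, 27, 27, 27, 19, 22, 25, 27, 27, 27, 27, 12, 27, 27, 13, 27, 27, 14, 27],
  [7, 6, 27, 27, 27, 27, 1, 0, 27, 27, 27, 27, 27, 27, 27, 19, 22, 25, 27, 15, 27, 27, 16, 27, 27, 17, 27],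
  [27, 5, 4, 27, 2, 1, 27, 27, 27, 20, 23, 26, 27, 27, 27, 27, 27, 27, 27, 27, 9, 27, 27, 10, 27, 27, 11],
  [5, 27, 3, 2, 27, 0, 27, 27, 27, 27, 27, 27, 20, 23, 26, 27, 27, 27, 27, 27, 12, 27, 27, 13, 27, 27, 14],
  [4, 3, 27, 1, 0, 27, 27, 27, 27, 27, 27, 27, 27, 27, 27, 20, 23, 26, 27, 27, 15, 27, 27, 16, 27, 27, 17],
  [18, 27, 27, 19, 27, 27, 20, 27, 27, 27, 27, 27, 27, 17, 16, 27, 14, 13, 0, 3, 6, 27, 27, 27, 27, 27, 27],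
  [21, 27, 27, 22, 27, 27, 23, 27, 27, 27, 27, 27, 17, 27, 15, 14, 27, 12, 27, 27, 27, 0, 3, 6, 27, 27, 27],
  [24, 27, 27, 25, 27, 27, 26, 27, 27, 27, 27, 27, 16, 15, 27, 13, 12, 27, 27, 27, 27, 27, 27, 27, 0, 3, 6],
  [27, 18, 27, 27, 19, 27, 27, 20, 27, 27, 17, 16, 27, 27, 27, 27, 11, 10, 1, 4, 7, 27, 27, 27, 27, 27, 27],
  [27, 21, 27, 27, 22, 27, 27, 23, 27, 17, 27, 15, 27, 27, 27, 11, 27, 9, 27, 27, 27, 1, 4, 7, 27, 27, 27],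
  [27, 24, 27, 27, 25, 27, 27, 26, 27, 16, 15, 27, 27, 27, 27, 10, 9, 27, 27, 27, 27, 27, 27, 27, 1, 4, 7],
  [27, 27, 18, 27, 27, 19, 27, 27, 20, 27, 14, 13, 27, 11, 10, 27, 27, 27, 2, 5, 8, 27, 27, 27, 27, 27, 27],
  [27, 27, 21, 27, 27, 22, 27, 27, 23, 14, 27, 12, 11, 27, 9, 27, 27, 27, 27, 27, 27, 2, 5, 8, 27, 27, 27],
  [27, 27, 24, 27, 27, 25, 27, 27, 26, 13, 12, 27, 10, 9, 27, 27, 27, 27, 27, 27, 27, 27, 27, 27, 2, 5, 8],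
  [9, 12, 15, 27, 27, 27, 27, 27, 27, 0, 27, 27, 1, 27, 27, 2, 27, 27, 27, 27, 27, 27, 26, 25, 27, 23, 22],
  [27, 27, 27, 9, 12, 15, 27, 27, 27, 3, 27, 27, 4, 27, 27, 5, 27, 27, 27, 27, 27, 26, 27, 24, 23, 27, 21],
  [27, 27, 27, 27, 27, 27, 9, 12, 15, 6, 27, 27, 7, 27, 27, 8, 27, 27, 27, 27, 27, 25, 24, 27, 22, 21, 27],
  [10, 13, 16, 27, 27, 27, 27, 27, 27, 27, 0, 27, 27, 1, 27, 27, 2, 27, 27, 26, 25, 27, 27, 27, 27, 20, 19],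
  [27, 27, 27, 10, 13, 16, 27, 27, 27, 27, 3, 27, 27, 4, 27, 27, 5, 27, 26, 27, 24, 27, 27, 27, 20, 27, 18],
  [27, 27, 27, 27, 27, 27, 10, 13, 16, 27, 6, 27, 27, 7, 27, 27, 8, 27, 25, 24, 27, 27, 27, 27, 19, 18, 27],
  [11, 14, 17, 27, 27, 27, 27, 27, 27, 27, 27, 0, 27, 27, 1, 27, 27, 2, 27, 23, 22, 27, 20, 19, 27, 27, 27],
  [27, 27, 27, 11, 14, 17, 27, 27, 27, 27, 27, 3, 27, 27, 4, 27, 27, 5, 23, 27, 21, 20, 27, 18, 27, 27, 27],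
  [27, 27, 27, 27, 27, 27, 11, 14, 17, 27, 27, 6, 27, 27, 7, 27, 27, 8, 22, 21, 27, 19, 18, 27, 27, 27, 27]]

/-- The sign of the tritangent plane. -/
def sgnL : List (List ℤ) :=
  [[0, 0, 0, 0, 1, -1, 0, -1, 1, -1, -1, -1, 0, 0, 0, 0, 0, 0, -1, 0, 0, -1, 0, 0, -1, 0, 0],
  [0, 0, 0, -1, 0, 1, 1, 0, -1, 0, 0, 0, -1, -1, -1, 0, 0, 0, -1, 0, 0, -1, 0, 0, -1, 0, 0],
  [0, 0, 0, 1, -1, 0, -1, 1, 0, 0, 0, 0, 0, 0, 0, -1, -1, -1, -1, 0, 0, -1, 0, 0, -1, 0, 0],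
  [0, -1, 1, 0, 0, 0, 0, 1, -1, -1, -1, -1, 0, 0, 0, 0, 0, 0, 0, -1, 0, 0, -1, 0, 0, -1, 0],
  [1, 0, -1, 0, 0, 0, -1, 0, 1, 0, 0, 0, -1, -1, -1, 0, 0, 0, 0, -1, 0, 0, -1, 0, 0, -1, 0],
  [-1, 1, 0, 0, 0, 0, 1, -1, 0, 0, 0, 0, 0, 0, 0, -1, -1, -1, 0, -1, 0, 0, -1, 0, 0, -1, 0],
  [0, 1, -1, 0, -1, 1, 0, 0, 0, -1, -1, -1, 0, 0, 0, 0, 0, 0, 0, 0, -1, 0, 0, -1, 0, 0, -1],
  [-1, 0, 1, 1, 0, -1, 0, 0, 0, 0, 0, 0, -1, -1, -1, 0, 0, 0, 0, 0, -1, 0, 0, -1, 0, 0, -1],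
  [1, -1, 0, -1, 1, 0, 0, 0, 0, 0, 0, 0, 0, 0, 0, -1, -1, -1, 0, 0, -1, 0, 0, -1, 0, 0, -1],
  [-1, 0, 0, -1, 0, 0, -1, 0, 0, 0, 0, 0, 0, 1, -1, 0, -1, 1, -1, -1, -1, 0, 0, 0, 0, 0, 0],
  [-1, 0, 0, -1, 0, 0, -1, 0, 0, 0, 0, 0, -1, 0, 1, 1, 0, -1, 0, 0, 0, -1, -1, -1, 0, 0, 0],
  [-1, 0, 0, -1, 0, 0, -1, 0, 0, 0, 0, 0, 1, -1, 0, -1, 1, 0, 0, 0, 0, 0, 0, 0, -1, -1, -1],
  [0, -1, 0, 0, -1, 0, 0, -1, 0, 0, -1, 1, 0, 0, 0, 0, 1, -1, -1, -1, -1, 0, 0, 0, 0, 0, 0],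
  [0, -1, 0, 0, -1, 0, 0, -1, 0, 1, 0, -1, 0, 0, 0, -1, 0, 1, 0, 0, 0, -1, -1, -1, 0, 0, 0],
  [0, -1, 0, 0, -1, 0, 0, -1, 0, -1, 1, 0, 0, 0, 0, 1, -1, 0, 0, 0, 0, 0, 0, 0, -1, -1, -1],
  [0, 0, -1, 0, 0, -1, 0, 0, -1, 0, 1, -1, 0, -1, 1, 0, 0, 0, -1, -1, -1, 0, 0, 0, 0, 0, 0],
  [0, 0, -1, 0, 0, -1, 0, 0, -1, -1, 0, 1, 1, 0, -1, 0, 0, 0, 0, 0, 0, -1, -1, -1, 0, 0, 0],
  [0, 0, -1, 0, 0, -1, 0, 0, -1, 1, -1, 0, -1, 1, 0, 0, 0, 0, 0, 0, 0, 0, 0, 0, -1, -1, -1],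
  [-1, -1, -1, 0, 0, 0, 0, 0, 0, -1, 0, 0, -1, 0, 0, -1, 0, 0, 0, 0, 0, 0, 1, -1, 0, -1, 1],
  [0, 0, 0, -1, -1, -1, 0, 0, 0, -1, 0, 0, -1, 0, 0, -1, 0, 0, 0, 0, 0, -1, 0, 1, 1, 0, -1],
  [0, 0, 0, 0, 0, 0, -1, -1, -1, -1, 0, 0, -1, 0, 0, -1, 0, 0, 0, 0, 0, 1, -1, 0, -1, 1, 0],
  [-1, -1, -1, 0, 0, 0, 0, 0, 0, 0, -1, 0, 0, -1, 0, 0, -1, 0, 0, -1, 1, 0, 0, 0, 0, 1, -1],
  [0, 0, 0, -1, -1, -1, 0, 0, 0, 0, -1, 0, 0, -1, 0, 0, -1, 0, 1, 0, -1, 0, 0, 0, -1, 0, 1],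
  [0, 0, 0, 0, 0, 0, -1, -1, -1, 0, -1, 0, 0, -1, 0, 0, -1, 0, -1, 1, 0, 0, 0, 0, 1, -1, 0],
  [-1, -1, -1, 0, 0, 0, 0, 0, 0, 0, 0, -1, 0, 0, -1, 0, 0, -1, 0, 1, -1, 0, -1, 1, 0, 0, 0],
  [0, 0, 0, -1, -1, -1, 0, 0, 0, 0, 0, -1, 0, 0, -1, 0, 0, -1, -1, 0, 1, 1, 0, -1, 0, 0, 0],
  [0, 0, 0, 0, 0, 0, -1, -1, -1, 0, 0, -1, 0, 0, -1, 0, 0, -1, 1, -1, 0, -1, 1, 0, 0, 0, 0]]

/-- The root taking one coordinate to another (`72` if none). -/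
def rootL : List (List ℕ) :=
  [[72, 56, 57, 70, 72, 72, 71, 72, 72, 72, 72, 72, 67, 68, 69, 64, 65, 66, 72, 63, 60, 72, 62, 59, 72, 61, 58],
  [15, 72, 42, 72, 70, 72, 72, 71, 72, 67, 68, 69, 72, 72, 72, 53, 54, 55, 72, 52, 45, 72, 51, 44, 72, 50, 43],
  [14, 29, 72, 72, 72, 70, 72, 72, 71, 64, 65, 66, 53, 54, 55, 72, 72, 72, 72, 49, 41, 72, 48, 40, 72, 47, 39],
  [1, 72, 72, 72, 56, 57, 46, 72, 72, 72, 72, 72, 30, 31, 32, 26, 27, 28, 63, 72, 18, 62, 72, 17, 61, 72, 16],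
  [72, 1, 72, 15, 72, 42, 72, 46, 72, 30, 31, 32, 72, 72, 72, 11, 12, 13, 52, 72, 7, 51, 72, 6, 50, 72, 5],
  [72, 72, 1, 14, 29, 72, 72, 72, 46, 26, 27, 28, 11, 12, 13, 72, 72, 72, 49, 72, 4, 48, 72, 3, 47, 72, 2],
  [0, 72, 72, 25, 72, 72, 72, 56, 57, 72, 72, 72, 22, 23, 24, 19, 20, 21, 60, 18, 72, 59, 17, 72, 58, 16, 72],
  [72, 0, 72, 72, 25, 72, 15, 72, 42, 22, 23, 24, 72, 72, 72, 8, 9, 10, 45, 7, 72, 44, 6, 72, 43, 5, 72],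
  [72, 72, 0, 72, 72, 25, 14, 29, 72, 19, 20, 21, 8, 9, 10, 72, 72, 72, 41, 4, 72, 40, 3, 72, 39, 2, 72],
  [72, 4, 7, 72, 41, 45, 72, 49, 52, 72, 36, 38, 15, 72, 72, 14, 72, 72, 72, 72, 72, 55, 13, 10, 54, 12, 9],
  [72, 3, 6, 72, 40, 44, 72, 48, 51, 35, 72, 37, 72, 15, 72, 72, 14, 72, 55, 13, 10, 72, 72, 72, 53, 11, 8],
  [72, 2, 5, 72, 39, 43, 72, 47, 50, 33, 34, 72, 72, 72, 15, 72, 72, 14, 54, 12, 9, 53, 11, 8, 72, 72, 72],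
  [4, 72, 18, 41, 72, 60, 49, 72, 63, 56, 72, 72, 72, 36, 38, 29, 72, 72, 72, 72, 72, 66, 28, 21, 65, 27, 20],
  [3, 72, 17, 40, 72, 59, 48, 72, 62, 72, 56, 72, 35, 72, 37, 72, 29, 72, 66, 28, 21, 72, 72, 72, 64, 26, 19],
  [2, 72, 16, 39, 72, 58, 47, 72, 61, 72, 72, 56, 33, 34, 72, 72, 72, 29, 65, 27, 20, 64, 26, 19, 72, 72, 72],
  [7, 18, 72, 45, 60, 72, 52, 63, 72, 57, 72, 72, 42, 72, 72, 72, 36, 38, 72, 72, 72, 69, 32, 24, 68, 31, 23],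
  [6, 17, 72, 44, 59, 72, 51, 62, 72, 72, 57, 72, 72, 42, 72, 35, 72, 37, 69, 32, 24, 72, 72, 72, 67, 30, 22],
  [5, 16, 72, 43, 58, 72, 50, 61, 72, 72, 72, 57, 72, 72, 42, 33, 34, 72, 68, 31, 23, 67, 30, 22, 72, 72, 72],
  [72, 72, 72, 8, 19, 22, 11, 26, 30, 72, 16, 17, 72, 5, 6, 72, 2, 3, 72, 1, 0, 35, 72, 72, 33, 72, 72],
  [8, 19, 22, 72, 72, 72, 53, 64, 67, 72, 58, 59, 72, 43, 44, 72, 39, 40, 70, 72, 25, 72, 35, 72, 72, 33, 72],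
  [11, 26, 30, 53, 64, 67, 72, 72, 72, 72, 61, 62, 72, 50, 51, 72, 47, 48, 71, 46, 72, 72, 72, 35, 72, 72, 33],
  [72, 72, 72, 9, 20, 23, 12, 27, 31, 16, 72, 18, 5, 72, 7, 2, 72, 4, 36, 72, 72, 72, 1, 0, 34, 72, 72],
  [9, 20, 23, 72, 72, 72, 54, 65, 68, 58, 72, 60, 43, 72, 45, 39, 72, 41, 72, 36, 72, 70, 72, 25, 72, 34, 72],
  [12, 27, 31, 54, 65, 68, 72, 72, 72, 61, 72, 63, 50, 72, 52, 47, 72, 49, 72, 72, 36, 71, 46, 72, 72, 72, 34],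
  [72, 72, 72, 10, 21, 24, 13, 28, 32, 17, 18, 72, 6, 7, 72, 3, 4, 72, 38, 72, 72, 37, 72, 72, 72, 1, 0],
  [10, 21, 24, 72, 72, 72, 55, 66, 69, 59, 60, 72, 44, 45, 72, 40, 41, 72, 72, 38, 72, 72, 37, 72, 70, 72, 25],
  [13, 28, 32, 55, 66, 69, 72, 72, 72, 62, 63, 72, 51, 52, 72, 48, 49, 72, 72, 72, 38, 72, 72, 37, 71, 46, 72]]

/-- The sign of the root matrix at a pair of coordinates. -/
def epsL : List (List ℤ) :=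
  [[0, 1, -1, 1, 0, 0, -1, 0, 0, 0, 0, 0, -1, 1, -1, -1, 1, -1, 0, 1, 1, 0, 1, 1, 0, 1, 1],
  [1, 0, 1, 0, 1, 0, 0, -1, 0, 1, -1, 1, 0, 0, 0, 1, -1, 1, 0, -1, -1, 0, -1, -1, 0, -1, -1],
  [-1, 1, 0, 0, 0, 1, 0, 0, -1, 1, -1, 1, -1, 1, -1, 0, 0, 0, 0, -1, 1, 0, -1, 1, 0, -1, 1],
  [1, 0, 0, 0, 1, -1, 1, 0, 0, 0, 0, 0, 1, 1, 1, 1, 1, 1, -1, 0, -1, -1, 0, 1, -1, 0, -1],
  [0, 1, 0, 1, 0, 1, 0, 1, 0, -1, -1, -1, 0, 0, 0, 1, 1, 1, 1, 0, -1, 1, 0, 1, 1, 0, -1],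
  [0, 0, 1, -1, 1, 0, 0, 0, 1, -1, -1, -1, -1, -1, -1, 0, 0, 0, 1, 0, 1, 1, 0, -1, 1, 0, 1],
  [-1, 0, 0, 1, 0, 0, 0, 1, -1, 0, 0, 0, 1, 1, 1, -1, -1, -1, -1, 1, 0, -1, -1, 0, -1, 1, 0],
  [0, -1, 0, 0, 1, 0, 1, 0, 1, -1, -1, -1, 0, 0, 0, -1, -1, -1, 1, 1, 0, 1, -1, 0, 1, 1, 0],
  [0, 0, -1, 0, 0, 1, -1, 1, 0, 1, 1, 1, 1, 1, 1, 0, 0, 0, -1, -1, 0, -1, 1, 0, -1, -1, 0],
  [0, 1, 1, 0, -1, -1, 0, -1, 1, 0, 1, 1, -1, 0, 0, 1, 0, 0, 0, 0, 0, 1, 1, -1, 1, -1, 1],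
  [0, -1, -1, 0, -1, -1, 0, -1, 1, 1, 0, 1, 0, -1, 0, 0, 1, 0, -1, -1, 1, 0, 0, 0, 1, 1, -1],
  [0, 1, 1, 0, -1, -1, 0, -1, 1, 1, 1, 0, 0, 0, -1, 0, 0, 1, -1, 1, -1, -1, -1, 1, 0, 0, 0],
  [-1, 0, -1, 1, 0, -1, 1, 0, 1, -1, 0, 0, 0, 1, 1, -1, 0, 0, 0, 0, 0, 1, -1, 1, 1, 1, -1],
  [1, 0, 1, 1, 0, -1, 1, 0, 1, 0, -1, 0, 1, 0, 1, 0, -1, 0, -1, 1, -1, 0, 0, 0, 1, -1, 1],
  [-1, 0, -1, 1, 0, -1, 1, 0, 1, 0, 0, -1, 1, 1, 0, 0, 0, -1, -1, -1, 1, -1, 1, -1, 0, 0, 0],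
  [-1, 1, 0, 1, 1, 0, -1, -1, 0, 1, 0, 0, -1, 0, 0, 0, 1, 1, 0, 0, 0, -1, 1, 1, -1, -1, -1],
  [1, -1, 0, 1, 1, 0, -1, -1, 0, 0, 1, 0, 0, -1, 0, 1, 0, 1, 1, -1, -1, 0, 0, 0, -1, 1, 1],
  [-1, 1, 0, 1, 1, 0, -1, -1, 0, 0, 0, 1, 0, 0, -1, 1, 1, 0, 1, 1, 1, 1, -1, -1, 0, 0, 0],
  [0, 0, 0, -1, 1, 1, -1, 1, -1, 0, -1, -1, 0, -1, -1, 0, 1, 1, 0, -1, 1, -1, 0, 0, -1, 0, 0],
  [1, -1, -1, 0, 0, 0, 1, 1, -1, 0, -1, 1, 0, 1, -1, 0, -1, 1, -1, 0, -1, 0, -1, 0, 0, -1, 0],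
  [1, -1, 1, -1, -1, 1, 0, 0, 0, 0, 1, -1, 0, -1, 1, 0, -1, 1, 1, -1, 0, 0, 0, -1, 0, 0, -1],
  [0, 0, 0, -1, 1, 1, -1, 1, -1, 1, 0, -1, 1, 0, -1, -1, 0, 1, -1, 0, 0, 0, -1, 1, -1, 0, 0],
  [1, -1, -1, 0, 0, 0, -1, -1, 1, 1, 0, -1, -1, 0, 1, 1, 0, -1, 0, -1, 0, -1, 0, -1, 0, -1, 0],
  [1, -1, 1, 1, 1, -1, 0, 0, 0, -1, 0, 1, 1, 0, -1, 1, 0, -1, 0, 0, -1, 1, -1, 0, 0, 0, -1],
  [0, 0, 0, -1, 1, 1, -1, 1, -1, 1, 1, 0, 1, 1, 0, -1, -1, 0, -1, 0, 0, -1, 0, 0, 0, -1, 1],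
  [1, -1, -1, 0, 0, 0, 1, 1, -1, -1, 1, 0, 1, -1, 0, -1, 1, 0, 0, -1, 0, 0, -1, 0, -1, 0, -1],
  [1, -1, 1, -1, -1, 1, 0, 0, 0, 1, -1, 0, -1, 1, 0, -1, 1, 0, 0, 0, -1, 0, 0, -1, 1, -1, 0]]

def thirdT (i j : ℕ) : ℕ := (thirdL.getD i []).getD j 27
def sgnT (i j : ℕ) : ℤ := (sgnL.getD i []).getD j 0
def rootT (i j : ℕ) : ℕ := (rootL.getD i []).getD j 72
def epsT (i j : ℕ) : ℤ := (epsL.getD i []).getD j 0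

/-- The column of a root element. -/
def cl (r k : ℕ) : Cl := colOf Cfsg.Agent.Lib.Chevalley.Tbl.E6.cols r k

/-- The checks for one column. -/
def chk (r k : ℕ) : Bool :=
  (cl r k).all (fun e => decide (e.deg = 1 ∨ e.deg = 2)) &&
  E27.L.all fun i => E27.L.all fun j =>
    decide (Lz (bl r) (Pz k) i j = Sz Pz 1 (cl r k) i j + Rz (bl r) (Pz k) i j) &&
    decide (Sz Pz 2 (cl r k) i j + Rz (bl r) (Sz Pz 1 (cl r k)) i j = 0) &&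
    decide (Rz (bl r) (Sz Pz 2 (cl r k)) i j = 0)

end

end Cfsg.Agent.Lib.E6Cubic.Tbl
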